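import Mathlib
import Cfsg.Agent.Perm.HomogeneousExceptions

set_option autoImplicit false
set_option linter.unusedSectionVars false

/-!
Transitive groups of degree `p + 1` of order `(p+1) p d` with `d < p`: coordinates in which a
point stabiliser is affine over `ZMod p`.
-/

namespace Cfsg.Agent.Perm.PrimeAddOne

open Equiv Finset

variable {α : Type*} [Fintype α] [DecidableEq α] {G : Subgroup (Perm α)} {p d : ℕ}

/-- `a` is infinity, `ι` the affine line, `π` the translation by one. -/
structure Frame (G : Subgroup (Perm α)) (p : ℕ) (a : α) (π : Perm α) (ι : ZMod p → α) : Prop where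
  inj : Function.Injective ι
  ne : ∀ i, ι i ≠ a
  surj : ∀ x, x ≠ a → ∃ i, ι i = x
  mem : π ∈ G
  fix : π a = a
  step : ∀ i, π (ι i) = ι (i + 1)

theorem exists_frame (hp : p.Prime) (hα : Fintype.card α = p + 1) (hdvd : p ∣ Nat.card G) :
    ∃ (a : α) (π : Perm α) (ι : ZMod p → α), Frame G p a π ι := by
  have : Fact p.Prime := ⟨hp⟩
  obtain ⟨g, hg⟩ := exists_prime_orderOf_dvd_card' (G := G) p hdvd
  set π : Perm α := (g : Perm α) with hπ
  have ho : orderOf π = p := by rw [hπ, Subgroup.orderOf_coe, hg]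
  have hle : π.support.card ≤ p + 1 := hα ▸ π.support.card_le_univ
  have hc : π.IsCycle := Perm.isCycle_of_prime_order (ho ▸ hp) (by
    rw [ho]; have := hp.two_le; omega)
  have hs : π.support.card = p := by rw [← hc.orderOf, ho]
  obtain ⟨a, ha⟩ : ∃ a, a ∉ π.support := by
    by_contra h
    push Not at h
    rw [eq_univ_of_forall h, card_univ] at hs
    omega
  obtain ⟨b, hb⟩ : π.support.Nonempty := card_pos.mp (by have := hp.pos; omega)
  rw [Perm.notMem_support] at ha
  rw [Perm.mem_support] at hb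
  have hpow : ∀ n : ℕ, (π ^ n) b = (π ^ (n % p)) b := fun n => by rw [← ho, pow_mod_orderOf]
  let ι : ZMod p → α := fun i => (π ^ i.val) b
  have hne : ∀ i, ι i ≠ a := fun i h => hb (by
    have e : (π ^ i.val) a = a := Perm.pow_apply_eq_self_of_apply_eq_self ha _
    have hba : b = a := (π ^ i.val).injective (h.trans e.symm)
    rw [hba]; exact ha)
  have hinj : Function.Injective ι := by
    suffices ∀ m n : ℕ, m ≤ n → n < p → (π ^ m) b = (π ^ n) b → m = n by
      intro i j h
      refine ZMod.val_injective p ?_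
      rcases le_total i.val j.val with h' | h'
      · exact this _ _ h' (ZMod.val_lt j) h
      · exact (this _ _ h' (ZMod.val_lt i) h.symm).symm
    intro m n hmn hn h
    obtain ⟨k, rfl⟩ := Nat.exists_eq_add_of_le hmn
    rw [add_comm m k, pow_add, Perm.mul_apply] at h
    have hbm : π ((π ^ m) b) ≠ (π ^ m) b := fun e => hb ((π ^ m).injective (by
      rw [← Perm.mul_apply, ← pow_succ, pow_succ', Perm.mul_apply, e]))
    have hk : π ^ k = 1 := hc.pow_eq_one_iff.mpr ⟨_, hbm, h.symm⟩
    have : k = 0 := Nat.eq_zero_of_dvd_of_lt (ho ▸ orderOf_dvd_of_pow_eq_one hk) (by omega)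
    omega
  refine ⟨a, π, ι, hinj, hne, fun x hx => ?_, g.2, ha, fun i => ?_⟩
  · have h : univ.image ι = univ.erase a := by
      refine eq_of_subset_of_card_le (fun y hy => ?_) ?_
      · obtain ⟨i, -, rfl⟩ := mem_image.mp hy
        exact mem_erase.mpr ⟨hne i, mem_univ _⟩
      · rw [card_erase_of_mem (mem_univ _), card_image_of_injective _ hinj, card_univ, card_univ,
          ZMod.card, hα]
        omega
    have := mem_erase.mpr ⟨hx, mem_univ x⟩
    rw [← h] at this
    obtain ⟨i, -, hi⟩ := mem_image.mp this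
    exact ⟨i, hi⟩
  · show π ((π ^ i.val) b) = (π ^ (i + 1).val) b
    rw [← Perm.mul_apply, ← pow_succ', ZMod.val_add, ZMod.val_one, ← hpow]

variable {a : α} {π : Perm α} {ι : ZMod p → α}

theorem Frame.step_pow [NeZero p] (hF : Frame G p a π ι) (n : ℕ) (i : ZMod p) :
    (π ^ n) (ι i) = ι (i + n) := by
  induction n generalizing i with
  | zero => simp
  | succ n ih => rw [pow_succ, Perm.mul_apply, hF.step, ih]; push_cast; ring_nf

theorem Frame.ext' (hF : Frame G p a π ι) {g g' : Perm α} (ha : g a = g' a)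
    (h : ∀ i, g (ι i) = g' (ι i)) : g = g' := by
  refine Equiv.ext fun x => ?_
  by_cases hx : x = a
  · rw [hx, ha]
  · obtain ⟨i, rfl⟩ := hF.surj x hx; exact h i

theorem Frame.trans_two (hF : Frame G p a π ι) [hp : Fact p.Prime]
    [MulAction.IsPretransitive G α] : MulAction.IsMultiplyPretransitive G α 2 := by
  refine succ_transitive (j := 1) ?_ ⟨fun _ => a, Function.injective_of_subsingleton _⟩ (ι 0)
    fun z hz => ?_
  · exact MulAction.is_one_pretransitive_iff.mpr inferInstance
  · obtain ⟨i, rfl⟩ := hF.surj z fun h => hz ⟨0, h.symm⟩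
    refine ⟨π ^ i.val, mem_tupleStab.mpr ⟨pow_mem hF.mem _,
      fun _ => Perm.pow_apply_eq_self_of_apply_eq_self hF.fix _⟩, ?_⟩
    rw [hF.step_pow, zero_add, ZMod.natCast_zmod_val]

theorem Frame.card_two (hF : Frame G p a π ι) [hp : Fact p.Prime] (hα : Fintype.card α = p + 1)
    (hG : Nat.card G = (p + 1) * p * d) [MulAction.IsPretransitive G α] (x : Fin 2 ↪ α) :
    Nat.card (tupleStab G x) = d := by
  have h := card_eq_descFactorial_mul hF.trans_two x
  rw [hG, hα, Nat.descFactorial_succ, Nat.descFactorial_one, Nat.add_sub_cancel] at h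
  refine Nat.eq_of_mul_eq_mul_left (show 0 < (p + 1) * p by positivity [hp.out.pos]) ?_
  rw [← mul_comm (p + 1) p] at h
  exact h.symm

theorem Frame.affine (hF : Frame G p a π ι) [hp : Fact p.Prime] (hα : Fintype.card α = p + 1)
    (hG : Nat.card G = (p + 1) * p * d) (hd : d < p) [MulAction.IsPretransitive G α]
    {g : Perm α} (hg : g ∈ G) (hga : g a = a) :
    ∃ k c : ZMod p, k ≠ 0 ∧ ∀ i, g (ι i) = ι (k * i + c) := by
  classical
  set S := tupleStab G (⟨fun _ => a, Function.injective_of_subsingleton _⟩ : Fin 1 ↪ α)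
  have hS : Nat.card S = p * d := by
    have h := card_eq_descFactorial_mul (j := 1)
      (MulAction.is_one_pretransitive_iff.mpr ‹MulAction.IsPretransitive G α›)
      (⟨fun _ => a, Function.injective_of_subsingleton _⟩ : Fin 1 ↪ α)
    rw [hG, hα, Nat.descFactorial_one, mul_assoc] at h
    exact (Nat.eq_of_mul_eq_mul_left (by omega) h).symm
  have memS : ∀ h : Perm α, h ∈ G → h a = a → h ∈ S := fun h hh ha =>
    mem_tupleStab.mpr ⟨hh, fun _ => ha⟩
  set π' := g * π * g⁻¹ with hπ'
  have hπS : π ∈ S := memS π hF.mem hF.fix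
  have hπ'S : π' ∈ S := mul_mem (mul_mem (memS g hg hga) hπS) (inv_mem (memS g hg hga))
  obtain ⟨k, hk⟩ : ∃ k : ℕ, π' = π ^ k := by
    by_contra hno
    push Not at hno
    have hord : ∀ {m : ℕ}, π ^ m = 1 → p ∣ m := fun {m} h => by
      have := hF.step_pow m 0
      rw [h, Perm.one_apply, zero_add] at this
      exact (ZMod.natCast_eq_zero_iff _ _).mp (hF.inj this).symm
    have hπp : π ^ p = 1 := hF.ext' (Perm.pow_apply_eq_self_of_apply_eq_self hF.fix p) fun i => by
      rw [hF.step_pow, ZMod.natCast_self, add_zero]; rfl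
    have hπ'p : π' ^ p = 1 := by rw [hπ', conj_pow, hπp]; group
    have hinj : Function.Injective fun x : ZMod p × ZMod p =>
        (⟨π ^ x.1.val * π' ^ x.2.val, mul_mem (pow_mem hπS _) (pow_mem hπ'S _)⟩ : S) := by
      intro x y h
      have h' : π ^ x.1.val * π' ^ x.2.val = π ^ y.1.val * π' ^ y.2.val := congrArg Subtype.val h
      have h2 : x.2 = y.2 := by
        by_contra hne
        have key : π' ^ ((x.2.val : ℤ) - y.2.val) = π ^ ((y.1.val : ℤ) - x.1.val) := by
          rw [zpow_sub, zpow_sub, zpow_natCast, zpow_natCast, zpow_natCast, zpow_natCast,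
            mul_inv_eq_iff_eq_mul]
          calc π' ^ x.2.val = (π ^ x.1.val)⁻¹ * (π ^ x.1.val * π' ^ x.2.val) := by group
            _ = _ := by
              rw [h', ← mul_assoc]
              congr 1
              rw [← zpow_natCast, ← zpow_natCast, ← zpow_neg, ← zpow_add, ← zpow_add]
              ring_nf
        have hcop : Int.gcd ((x.2.val : ℤ) - y.2.val) p = 1 := by
          have : ¬ (p : ℤ) ∣ (x.2.val : ℤ) - y.2.val := fun hd => hne (by
            have := (ZMod.intCast_zmod_eq_zero_iff_dvd _ p).mpr hd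
            push_cast at this
            rwa [ZMod.natCast_zmod_val, ZMod.natCast_zmod_val, sub_eq_zero] at this)
          rw [← Int.isCoprime_iff_gcd_eq_one]
          exact ((Nat.prime_iff_prime_int.mp hp.out).coprime_iff_not_dvd.mpr this).symm
        have hbez := Int.gcd_eq_gcd_ab ((x.2.val : ℤ) - y.2.val) p
        rw [hcop] at hbez
        set u := Int.gcdA ((x.2.val : ℤ) - y.2.val) p
        set v := Int.gcdB ((x.2.val : ℤ) - y.2.val) p
        have : π' = π ^ (((y.1.val : ℤ) - x.1.val) * u) := by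
          calc π' = π' ^ ((1 : ℕ) : ℤ) := by simp
            _ = (π' ^ ((x.2.val : ℤ) - y.2.val)) ^ u * (π' ^ (p : ℤ)) ^ v := by
              rw [hbez, zpow_add, zpow_mul, zpow_mul]
            _ = _ := by rw [key, zpow_natCast, hπ'p, one_zpow, mul_one, zpow_mul]
        have hmem : π' ∈ Subgroup.zpowers π := ⟨_, this.symm⟩
        rw [← mem_powers_iff_mem_zpowers] at hmem
        obtain ⟨n, hn⟩ := hmem
        exact hno n hn.symm
      refine Prod.ext ?_ h2
      rw [h2, mul_left_inj] at h'
      have := congrArg (fun f : Perm α => f (ι 0)) h'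
      simp only [hF.step_pow, zero_add, ZMod.natCast_zmod_val] at this
      exact hF.inj this
    have := Nat.card_le_card_of_injective _ hinj
    rw [Nat.card_prod, Nat.card_zmod, hS] at this
    have := Nat.le_of_mul_le_mul_left this hp.out.pos
    omega
  obtain ⟨c, hc⟩ := hF.surj (g (ι 0)) fun h => hF.ne 0 (g.injective (h.trans hga.symm))
  have hstep : ∀ n : ℕ, g (ι (n : ZMod p)) = ι ((k : ZMod p) * n + c) := by
    intro n
    induction n with
    | zero => simp [hc]
    | succ n ih =>
      have h1 : g (π (ι (n : ZMod p))) = π' (g (ι (n : ZMod p))) := by simp [hπ']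
      rw [hF.step] at h1
      push_cast
      rw [h1, ih, hk, hF.step_pow]
      ring_nf
  refine ⟨k, c, fun hk0 => ?_, fun i => by rw [← ZMod.natCast_zmod_val i]; exact hstep _⟩
  have h1 := hstep 1
  have h0 := hstep 0
  rw [hk0, zero_mul] at h1 h0
  exact one_ne_zero (α := ZMod p)
    (Nat.cast_one.symm.trans ((hF.inj (g.injective (h1.trans h0.symm))).trans Nat.cast_zero))

theorem eq_one_of_fix_three [hp : Fact p.Prime] (hα : Fintype.card α = p + 1)
    (hG : Nat.card G = (p + 1) * p * d) (hd : d < p) [ht : MulAction.IsPretransitive G α]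
    (hF : Frame G p a π ι) {g : Perm α} (hg : g ∈ G) {x y z : α} (hxy : x ≠ y) (hxz : x ≠ z)
    (hyz : y ≠ z) (hx : g x = x) (hy : g y = y) (hz : g z = z) : g = 1 := by
  obtain ⟨h, hh⟩ := MulAction.exists_smul_eq G x a
  have hh' : (h : Perm α) x = a := hh
  set g' := (h : Perm α) * g * (h : Perm α)⁻¹ with hg'
  have hfix : ∀ w, g w = w → g' ((h : Perm α) w) = (h : Perm α) w := fun w hw => by
    simp [hg', hw]
  obtain ⟨k, c, -, hkc⟩ := hF.affine hα hG hd (g := g') (mul_mem (mul_mem h.2 hg) (inv_mem h.2))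
    (hh' ▸ hfix x hx)
  obtain ⟨i, hi⟩ := hF.surj ((h : Perm α) y) fun e => hxy ((h : Perm α).injective (hh'.trans e.symm))
  obtain ⟨j, hj⟩ := hF.surj ((h : Perm α) z) fun e => hxz ((h : Perm α).injective (hh'.trans e.symm))
  have ei : k * i + c = i := hF.inj (by rw [← hkc, hi, hfix y hy])
  have ej : k * j + c = j := hF.inj (by rw [← hkc, hj, hfix z hz])
  have hij : i - j ≠ 0 := sub_ne_zero.mpr fun e => hyz ((h : Perm α).injective (by rw [← hi, ← hj, e]))
  have hk : k = 1 := mul_right_cancel₀ hij (by linear_combination ei - ej)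
  have h1 : g' = 1 := hF.ext' (hh' ▸ hfix x hx) fun w => by
    rw [hkc, Perm.one_apply]; congr 1; rw [hk] at ei ⊢; linear_combination ei
  exact conj_eq_one_iff.mp h1

end Cfsg.Agent.Perm.PrimeAddOne
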