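import Mathlib
import Cfsg.Agent.Perm.PrimeAddOne.Setup
import Cfsg.Agent.H33.SharplyThreeEven
import Cfsg.Agent.Linear.Order

set_option autoImplicit false
set_option linter.unusedSectionVars false

/-!
Order `(p+1) p (p-1)`: the group is `PGL(2, p)`.
-/

namespace Cfsg.Agent.Perm.PrimeAddOne

open Equiv MulAction
open scoped LinearAlgebra.Projectivization
open Cfsg.Agent.H33.SharpOdd (finite_ne inf_ne mk_mulVec)
open Cfsg.Agent.H27 (GLTwo.wedge)

variable {α : Type*} [Fintype α] [DecidableEq α] {G : Subgroup (Perm α)} {p d : ℕ} [hp : Fact p.Prime]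
  {a : α} {π : Perm α} {ι : ZMod p → α}

theorem exists_line (hF : Frame G p a π ι) : ∃ θ : α ≃ ℙ (ZMod p) (Fin 2 → ZMod p),
    θ a = Projectivization.mk (ZMod p) ![1, 0] inf_ne ∧
    ∀ i, θ (ι i) = Projectivization.mk (ZMod p) ![i, 1] (finite_ne i) := by
  classical
  let f : α → ℙ (ZMod p) (Fin 2 → ZMod p) := fun x =>
    if hx : x = a then Projectivization.mk (ZMod p) ![1, 0] inf_ne
    else Projectivization.mk (ZMod p) ![(hF.surj x hx).choose, 1] (finite_ne _)
  have hfa : f a = Projectivization.mk (ZMod p) ![1, 0] inf_ne := dif_pos rfl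
  have hfι : ∀ i, f (ι i) = Projectivization.mk (ZMod p) ![i, 1] (finite_ne i) := fun i => by
    simp only [f, dif_neg (hF.ne i), hF.inj (hF.surj (ι i) (hF.ne i)).choose_spec]
  have hbij : Function.Bijective f := by
    constructor
    · intro x y h
      by_cases hx : x = a <;> by_cases hy : y = a
      · rw [hx, hy]
      · obtain ⟨j, rfl⟩ := hF.surj y hy
        rw [hx, hfa, hfι, Projectivization.mk_eq_mk_iff'] at h
        obtain ⟨c, hc⟩ := h
        have h0 := congrFun hc 0
        have h1 := congrFun hc 1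
        simp at h0 h1
        simp [h1] at h0
      · obtain ⟨i, rfl⟩ := hF.surj x hx
        rw [hy, hfa, hfι, Projectivization.mk_eq_mk_iff'] at h
        obtain ⟨c, hc⟩ := h
        have h1 := congrFun hc 1
        simp at h1
      · obtain ⟨i, rfl⟩ := hF.surj x hx
        obtain ⟨j, rfl⟩ := hF.surj y hy
        rw [hfι, hfι, Projectivization.mk_eq_mk_iff'] at h
        obtain ⟨c, hc⟩ := h
        have h0 := congrFun hc 0
        have h1 := congrFun hc 1
        simp at h0 h1
        rw [h1, one_mul] at h0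
        rw [h0]
    · intro P
      induction P using Projectivization.ind with
      | h v hv =>
        by_cases h1 : v 1 = 0
        · refine ⟨a, ?_⟩
          rw [hfa, Projectivization.mk_eq_mk_iff']
          have h0 : v 0 ≠ 0 := fun h0 => hv (funext fun i => by fin_cases i <;> assumption)
          refine ⟨(v 0)⁻¹, funext fun i => ?_⟩
          fin_cases i <;> simp [h0, h1]
        · refine ⟨ι (v 0 / v 1), ?_⟩
          rw [hfι, Projectivization.mk_eq_mk_iff']
          refine ⟨(v 1)⁻¹, funext fun i => ?_⟩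
          fin_cases i <;> simp [h1]
          field_simp
  exact ⟨Equiv.ofBijective f hbij, hfa, hfι⟩

/-- Multiplications, and a swap acting as inversion. -/
theorem full_elements (hα : Fintype.card α = p + 1) (hG : Nat.card G = (p + 1) * p * d)
    (hd : d + 1 = p) (hp2 : p ≠ 2) [IsPretransitive G α] (hF : Frame G p a π ι) :
    ∃ s ∈ G, s a = ι 0 ∧ s (ι 0) = a ∧ ∀ x : ZMod p, x ≠ 0 → s (ι x) = ι x⁻¹ := by
  classical
  have h01 : ι 0 ≠ ι 1 := fun h => zero_ne_one (hF.inj h)
  let x2 : Fin 2 ↪ α := ⟨![a, ι 0], by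
    intro i j h
    fin_cases i <;> fin_cases j <;>
      first | rfl | exact absurd h.symm (hF.ne 0) | exact absurd h (hF.ne 0)⟩
  have hd' : d < p := by omega
  -- all multiplications lie in `G`
  have hk : ∀ h : tupleStab G x2, ∃ k : ZMod p, k ≠ 0 ∧ ∀ i, (h : Perm α) (ι i) = ι (k * i) := by
    intro h
    obtain ⟨hh, hx⟩ := mem_tupleStab.mp h.2
    obtain ⟨k, c, hk, hkc⟩ := hF.affine hα hG hd' hh (hx 0)
    have : c = 0 := by
      have := hkc 0
      rw [show (h : Perm α) (ι 0) = ι 0 from hx 1, mul_zero, zero_add] at this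
      exact (hF.inj this).symm
    exact ⟨k, hk, fun i => by rw [hkc, this, add_zero]⟩
  choose κ hκ0 hκ using hk
  have hbij : Function.Bijective fun h => (⟨κ h, hκ0 h⟩ : {c : ZMod p // c ≠ 0}) := by
    have := Fintype.ofFinite (tupleStab G x2)
    refine (Fintype.bijective_iff_injective_and_card _).mpr ⟨fun h h' e => ?_, ?_⟩
    · have e' : κ h = κ h' := congrArg Subtype.val e
      exact Subtype.ext (hF.ext' (((mem_tupleStab.mp h.2).2 0).trans ((mem_tupleStab.mp h'.2).2 0).symm)
        fun i => by rw [hκ, hκ, e'])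
    · rw [← Nat.card_eq_fintype_card, hF.card_two hα hG x2, Fintype.card_subtype_compl,
        Fintype.card_subtype_eq, ZMod.card]
      omega
  have haff : ∀ k c : ZMod p, k ≠ 0 → ∃ g ∈ G, g a = a ∧ ∀ i, g (ι i) = ι (k * i + c) := by
    intro k c hk
    obtain ⟨h, hh⟩ := hbij.2 ⟨k, hk⟩
    have e : κ h = k := congrArg Subtype.val hh
    refine ⟨π ^ c.val * h, mul_mem (pow_mem hF.mem _) (mem_tupleStab.mp h.2).1, ?_, fun i => ?_⟩
    · rw [Perm.mul_apply, show (h : Perm α) a = a from (mem_tupleStab.mp h.2).2 0,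
        Perm.pow_apply_eq_self_of_apply_eq_self hF.fix]
    · rw [Perm.mul_apply, hκ, e, hF.step_pow, ZMod.natCast_zmod_val]
  have h3 : IsMultiplyPretransitive G α 3 := by
    refine succ_transitive hF.trans_two x2 (ι 1) fun z hz => ?_
    obtain ⟨c, rfl⟩ := hF.surj z fun h => hz ⟨0, h.symm⟩
    have hc : c ≠ 0 := fun h => hz ⟨1, by rw [h]; rfl⟩
    obtain ⟨h, hh⟩ := hbij.2 ⟨c, hc⟩
    exact ⟨h, h.2, by rw [hκ, mul_one, show κ h = c from congrArg Subtype.val hh]⟩
  obtain ⟨s, hs, hsx⟩ := exists_map_tuple h3 (Fintype.card_fin 3)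
    (⟨![a, ι 0, ι 1], by
      intro i j h
      fin_cases i <;> fin_cases j <;> first
        | rfl
        | exact absurd h.symm (hF.ne _)
        | exact absurd h (hF.ne _)
        | exact absurd h h01
        | exact absurd h.symm h01⟩ : Fin 3 ↪ α)
    (⟨![ι 0, a, ι 1], by
      intro i j h
      fin_cases i <;> fin_cases j <;> first
        | rfl
        | exact absurd h.symm (hF.ne _)
        | exact absurd h (hF.ne _)
        | exact absurd h h01
        | exact absurd h.symm h01⟩ : Fin 3 ↪ α)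
  have sa : s a = ι 0 := hsx 0
  have s0 : s (ι 0) = a := hsx 1
  have s1 : s (ι 1) = ι 1 := hsx 2
  have ext3 : ∀ g ∈ G, ∀ g' ∈ G, g a = g' a → g (ι 0) = g' (ι 0) → g (ι 1) = g' (ι 1) → g = g' := by
    intro g hg g' hg' ea e0 e1
    refine (inv_mul_eq_one.mp (eq_one_of_fix_three hα hG hd' hF (mul_mem (inv_mem hg') hg)
      (hF.ne 0).symm (hF.ne 1).symm h01 ?_ ?_ ?_)).symm
    all_goals simp [Perm.inv_eq_iff_eq, ea, e0, e1]
  have hss : s * s = 1 := ext3 _ (mul_mem hs hs) 1 (one_mem _) (by simp [sa, s0]) (by simp [sa, s0])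
    (by simp [s1])
  have ss : ∀ x, s (s x) = x := fun x => by rw [← Perm.mul_apply, hss]; rfl
  have hex : ∀ x : ZMod p, ∃ y, x ≠ 0 → y ≠ 0 ∧ s (ι x) = ι y := by
    intro x
    by_cases hx : x = 0
    · exact ⟨0, fun h => absurd hx h⟩
    · obtain ⟨y, hy⟩ := hF.surj (s (ι x)) fun h => hx (hF.inj (s.injective (h.trans s0.symm)))
      exact ⟨y, fun _ => ⟨fun h => hF.ne x (s.injective (by rw [← hy, h, sa])), hy.symm⟩⟩
  choose f hf using hex
  have hff : ∀ x, x ≠ 0 → f (f x) = x := fun x hx =>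
    hF.inj (by rw [← (hf _ (hf x hx).1).2, ← (hf x hx).2, ss])
  have hf1 : f 1 = 1 := hF.inj (by rw [← (hf 1 one_ne_zero).2, s1])
  have hfinj : ∀ x y, x ≠ 0 → y ≠ 0 → f x = f y → x = y := fun x y hx hy h => by
    rw [← hff x hx, h, hff y hy]
  have hmul : ∀ c x, c ≠ 0 → x ≠ 0 → f (c * x) = f c * f x := by
    intro c x hc hx
    obtain ⟨g, hg, hga, hgι⟩ := haff c 0 hc
    simp only [add_zero] at hgι
    have hga' : (s * g * s) a = a := by
      simp only [Perm.mul_apply]
      rw [sa, hgι, mul_zero, s0]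
    obtain ⟨k, e, -, hke⟩ := hF.affine hα hG hd' (mul_mem (mul_mem hs hg) hs) hga'
    have he : e = 0 := by
      have := hke 0
      simp only [Perm.mul_apply] at this
      rw [s0, hga, sa, mul_zero, zero_add] at this
      exact (hF.inj this).symm
    have hval : ∀ i, i ≠ 0 → f (c * f i) = k * i := by
      intro i hi
      have := hke i
      simp only [Perm.mul_apply] at this
      rw [(hf i hi).2, hgι, (hf _ (mul_ne_zero hc (hf i hi).1)).2, he, add_zero] at this
      exact hF.inj this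
    have hk1 := hval 1 one_ne_zero
    rw [hf1, mul_one, mul_one] at hk1
    have h2 := hval (f x) (hf x hx).1
    rwa [hff x hx, ← hk1] at h2
  have h2ne : (2 : ZMod p) ≠ 0 := fun h => hp2 ((Nat.prime_dvd_prime_iff_eq hp.out Nat.prime_two).mp
    ((ZMod.natCast_eq_zero_iff 2 p).mp (by exact_mod_cast h)))
  have hm1 : f (-1) = -1 := by
    have h := hmul (-1) (-1) (by simp) (by simp)
    rw [neg_mul_neg, one_mul, hf1] at h
    rcases mul_self_eq_one_iff.mp h.symm with h' | h'
    · have := hfinj (-1) 1 (by simp) one_ne_zero (h'.trans hf1.symm)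
      exact absurd (by linear_combination -this) h2ne
    · exact h'
  have hneg : ∀ x, x ≠ 0 → f (-x) = -f x := fun x hx => by
    rw [neg_eq_neg_one_mul, hmul _ _ (by simp) hx, hm1, neg_one_mul]
  -- the relation between `x ↦ 1 - x` and `s`
  have hid : ∀ x, x ≠ 0 → x ≠ 1 → f (1 - f x) = 1 - f (1 - x) := by
    intro x hx0 hx1
    obtain ⟨w, hw, hwa, hwι⟩ := haff (-1) 1 (by simp)
    obtain ⟨t, ht, hta, htι⟩ := haff 1 (-1) one_ne_zero
    obtain ⟨t', ht', hta', htι'⟩ := haff 1 1 one_ne_zero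
    have e := ext3 (s * w * s) (mul_mem (mul_mem hs hw) hs) (t' * s * t) (mul_mem (mul_mem ht' hs) ht)
      (by simp only [Perm.mul_apply]
          rw [sa, hwι, hta, sa, htι', mul_zero, zero_add, mul_zero, zero_add, s1])
      (by simp only [Perm.mul_apply]
          rw [s0, hwa, sa, htι, mul_zero, zero_add, (hf _ (by simp)).2, hm1, htι']
          simp)
      (by simp only [Perm.mul_apply]
          rw [s1, hwι, htι, show (-1 : ZMod p) * 1 + 1 = 0 by ring, show (1 : ZMod p) * 1 + -1 = 0 by ring,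
            s0, hta'])
    have e' := DFunLike.congr_fun e (ι x)
    simp only [Perm.mul_apply] at e'
    have hne : 1 - f x ≠ 0 := fun h => hx1 (hfinj x 1 hx0 one_ne_zero (by
      rw [hf1]; linear_combination -h))
    have hne' : 1 - x ≠ 0 := sub_ne_zero.mpr (Ne.symm hx1)
    rw [(hf x hx0).2, hwι, show -1 * f x + 1 = 1 - f x by ring, (hf _ hne).2, htι,
      show 1 * x + -1 = -(1 - x) by ring, (hf _ (neg_ne_zero.mpr hne')).2, htι'] at e'
    rw [hF.inj e', hneg _ hne']
    ring
  refine ⟨s, hs, sa, s0, fun x hx => ?_⟩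
  rw [(hf x hx).2]
  by_cases hx1 : x = 1
  · rw [hx1, hf1, inv_one]
  -- `φ = 1/f` satisfies the two linear equations forcing `φ x = x`
  set φ : ZMod p → ZMod p := fun y => (f y)⁻¹ with hφ
  have φ0 : ∀ y, y ≠ 0 → φ y ≠ 0 := fun y hy => inv_ne_zero (hf y hy).1
  have φφ : ∀ y, y ≠ 0 → φ (φ y) = y := by
    intro y hy
    have h := hmul (f y) (f y)⁻¹ (hf y hy).1 (inv_ne_zero (hf y hy).1)
    rw [mul_inv_cancel₀ (hf y hy).1, hf1, hff y hy] at h
    show (f (f y)⁻¹)⁻¹ = y
    exact inv_eq_of_mul_eq_one_left h.symm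
  have φmul : ∀ y z, y ≠ 0 → z ≠ 0 → φ (y * z) = φ y * φ z := fun y z hy hz => by
    simp only [hφ, hmul y z hy hz, mul_inv]
  have φneg : ∀ y, y ≠ 0 → φ (-y) = -φ y := fun y hy => by simp only [hφ, hneg y hy, inv_neg]
  have φ1 : ∀ y, y ≠ 0 → φ y = 1 → y = 1 := fun y hy h => by
    have := φφ y hy
    rw [h] at this
    rw [← this]; simp [hφ, hf1]
  have step : ∀ y, y ≠ 0 → y ≠ 1 → φ (1 - φ y) * (1 - φ (1 - y)) = y * φ (1 - y) := by
    intro y hy0 hy1
    have hy' : 1 - y ≠ 0 := sub_ne_zero.mpr (Ne.symm hy1)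
    have h := hid y hy0 hy1
    have hfy : f y = (φ y)⁻¹ := (inv_inv _).symm
    have hne : 1 - f y ≠ 0 := fun h => hy1 (hfinj y 1 hy0 one_ne_zero (by
      rw [hf1]; linear_combination -h))
    have hne2 : 1 - φ y ≠ 0 := sub_ne_zero.mpr fun h => hy1 (φ1 y hy0 h.symm)
    have e1 : φ (1 - f y) * y = -φ (1 - φ y) := by
      rw [← φneg _ hne2]
      conv_lhs => arg 2; rw [← φφ y hy0]
      rw [← φmul _ _ hne (φ0 y hy0)]
      congr 1
      rw [sub_mul, one_mul, hfy, inv_mul_cancel₀ (φ0 y hy0)]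
      ring
    have e2 : φ (1 - f y) * (1 - (φ (1 - y))⁻¹) = 1 := by
      have h0 := (hf _ hne).1
      rw [show (1 : ZMod p) - (φ (1 - y))⁻¹ = 1 - f (1 - y) by simp [hφ], ← h]
      exact inv_mul_cancel₀ h0
    have hP := φ0 _ hy'
    field_simp at e2
    linear_combination y * e2 + (1 - φ (1 - y)) * e1
  have lin : ∀ y, y ≠ 0 → y ≠ 1 → φ (1 - y) * (1 + y) = 1 - y * φ y := by
    intro y hy0 hy1
    have h1 := step y hy0 hy1
    have h2 := step (φ y) (φ0 y hy0) fun h => hy1 (φ1 y hy0 h)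
    rw [φφ y hy0] at h2
    set P := φ (1 - y)
    set Q := φ (1 - φ y)
    have hP : P ≠ 0 := φ0 _ (sub_ne_zero.mpr (Ne.symm hy1))
    refine mul_left_cancel₀ hP ?_
    linear_combination (-P - φ y) * h1 - (1 - P) * h2
  have hx' : 1 - x ≠ 0 := sub_ne_zero.mpr (Ne.symm hx1)
  have l1 := lin x hx hx1
  have l2 := lin (1 - x) hx' fun h => hx (by linear_combination -h)
  rw [sub_sub_cancel] at l2
  have : φ (1 - x) = 1 - x := by
    refine mul_left_cancel₀ h2ne ?_
    linear_combination (2 - x) * l1 - x * l2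
  have e : φ x = x := by
    have h3 := congrArg (fun y => y * (1 + x)) this
    simp only [l1] at h3
    exact mul_left_cancel₀ hx (by linear_combination -h3)
  rw [show f x = x⁻¹ from inv_inj.mp (by rw [inv_inv]; exact e)]

/-- Recognition of `PGL(2, p)` from the order and the two kinds of generators. -/
theorem pgl_of_full (hα : Fintype.card α = p + 1) (hG : Nat.card G = (p + 1) * p * d)
    (hd : d + 1 = p) [IsPretransitive G α] (hF : Frame G p a π ι) :
    Nonempty (G ≃* Matrix.ProjGenLinGroup (Fin 2) (ZMod p)) := by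
  classical
  obtain ⟨θ, hθa, hθι⟩ := exists_line hF
  let ψ : Matrix.ProjGenLinGroup (Fin 2) (ZMod p) →* Perm α :=
    (θ.symm.permCongrHom.toMonoidHom).comp (toPermHom _ _)
  have hψ : ∀ γ x, θ (ψ γ x) = γ • θ x := fun γ x => θ.apply_symm_apply _
  have hinj : Function.Injective ψ := by
    rw [injective_iff_map_eq_one]
    intro γ hγ
    have hfix : ∀ x, γ • θ x = θ x := fun x => by rw [← hψ, hγ]; rfl
    exact Cfsg.Agent.H27.ProjLine.eq_one_of_fix_three γ (θ.injective.ne (hF.ne 0).symm)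
      (θ.injective.ne (hF.ne 1).symm) (θ.injective.ne fun h => zero_ne_one (hF.inj h))
      (hfix a) (hfix _) (hfix _)
  have hcard : Nat.card ψ.range = Nat.card G := by
    rw [← Nat.card_congr (MonoidHom.ofInjective hinj).toEquiv, Cfsg.Agent.Linear.card_PGL_eq,
      Cfsg.Agent.Linear.card_SL_two, ZMod.card, hG]
    obtain rfl : d = p - 1 := by omega
    have h2 := Nat.sq_sub_sq p 1
    rw [one_pow] at h2
    rw [h2]; ring
  have heq : G = ψ.range := by
    by_cases hp2 : p = 2
    · have htop : G = ⊤ := Subgroup.eq_top_of_card_eq G (by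
        rw [hG, Nat.card_perm, Nat.card_eq_fintype_card, hα]
        obtain rfl : d = 1 := by omega
        subst hp2; rfl)
      refine htop.trans (Subgroup.eq_top_of_card_eq ψ.range ?_).symm
      rw [hcard, htop, Subgroup.card_top]
    refine Subgroup.eq_of_le_of_card_ge (fun g hg => ?_) hcard.le
    have hmk : ∀ (h : Perm α) (k : GL (Fin 2) (ZMod p)),
        (∀ x, θ (h x) = Matrix.ProjGenLinGroup.mk k • θ x) → h ∈ ψ.range := fun h k hk =>
      ⟨Matrix.ProjGenLinGroup.mk k, Equiv.ext fun x => θ.injective (by rw [hψ, hk])⟩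
    have hfixA : ∀ h ∈ G, h a = a → h ∈ ψ.range := by
      intro h hh ha
      obtain ⟨k, c, hk, hkc⟩ := hF.affine hα hG (by omega) hh ha
      refine hmk h (Matrix.GeneralLinearGroup.mkOfDetNeZero !![k, c; 0, 1] (by simpa [Matrix.det_fin_two] using hk))
        fun x => ?_
      by_cases hx : x = a
      · rw [hx, ha, hθa]
        refine (mk_mulVec _ _ inf_ne _ inf_ne ?_).symm
        simp [GLTwo.wedge, Matrix.GeneralLinearGroup.mkOfDetNeZero, Matrix.mulVec]
      · obtain ⟨i, rfl⟩ := hF.surj x hx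
        rw [hkc, hθι, hθι]
        refine (mk_mulVec _ _ (finite_ne _) _ (finite_ne _) ?_).symm
        simp [GLTwo.wedge, Matrix.GeneralLinearGroup.mkOfDetNeZero, Matrix.mulVec]
    obtain ⟨s, hs, sa, s0, sx⟩ := full_elements hα hG hd hp2 hF
    have hsR : s ∈ ψ.range := by
      refine hmk s (Matrix.GeneralLinearGroup.mkOfDetNeZero !![0, 1; 1, 0] (by simp [Matrix.det_fin_two]))
        fun x => ?_
      by_cases hx : x = a
      · rw [hx, sa, hθa, hθι]
        refine (mk_mulVec _ _ inf_ne _ (finite_ne _) ?_).symm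
        simp [GLTwo.wedge, Matrix.GeneralLinearGroup.mkOfDetNeZero, Matrix.mulVec]
      · obtain ⟨i, rfl⟩ := hF.surj x hx
        by_cases hi : i = 0
        · rw [hi, s0, hθι, hθa]
          refine (mk_mulVec _ _ (finite_ne _) _ inf_ne ?_).symm
          simp [GLTwo.wedge, Matrix.GeneralLinearGroup.mkOfDetNeZero, Matrix.mulVec]
        · rw [sx i hi, hθι, hθι]
          refine (mk_mulVec _ _ (finite_ne _) _ (finite_ne _) ?_).symm
          simp [GLTwo.wedge, Matrix.GeneralLinearGroup.mkOfDetNeZero, Matrix.mulVec, hi]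
    by_cases hga : g a = a
    · exact hfixA g hg hga
    · obtain ⟨i, hi⟩ := hF.surj (g a) hga
      have hh : (s * (π ^ i.val)⁻¹ * g) a = a := by
        simp only [Perm.mul_apply]
        rw [← hi, show (π ^ i.val)⁻¹ (ι i) = ι 0 by
          rw [Perm.inv_eq_iff_eq, hF.step_pow, zero_add, ZMod.natCast_zmod_val], s0]
      have h1 := hfixA _ (mul_mem (mul_mem hs (inv_mem (pow_mem hF.mem _))) hg) hh
      have h2 := hfixA π hF.mem hF.fix
      rw [show g = π ^ i.val * (s⁻¹ * (s * (π ^ i.val)⁻¹ * g)) by group]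
      exact mul_mem (pow_mem h2 _) (mul_mem (inv_mem hsR) h1)
  exact ⟨(MulEquiv.subgroupCongr heq).trans (MonoidHom.ofInjective hinj).symm⟩

end Cfsg.Agent.Perm.PrimeAddOne
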