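import Mathlib
import Cfsg.Agent.Perm.Basic
import Cfsg.Agent.Perm.PrimeAddOne.Setup
import Cfsg.Prelude.Def_Perm

set_option autoImplicit false
set_option linter.unusedSectionVars false
set_option maxHeartbeats 1000000

/-!
A regular normal subgroup turns the group into a group of semi-affine maps of `GF(2^q)`.
-/

namespace Cfsg.Agent.Perm.PrimeAddOne

open Equiv MulAction

variable {α : Type*} [Fintype α] [DecidableEq α] {G : Subgroup (Perm α)} {p d : ℕ} [hp : Fact p.Prime]
  {a : α} {π : Perm α} {ι : ZMod p → α}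

theorem card_ringAut_galois (q : ℕ) (hq : q ≠ 0) :
    Nat.card (RingAut (GaloisField 2 q)) = q := by
  let e : RingAut (GaloisField 2 q) ≃ (GaloisField 2 q ≃ₐ[ZMod 2] GaloisField 2 q) :=
    { toFun := fun f => AlgEquiv.ofRingEquiv (f := f) fun x => by
        exact DFunLike.congr_fun (Subsingleton.elim
          ((f : GaloisField 2 q →+* GaloisField 2 q).comp (algebraMap (ZMod 2) (GaloisField 2 q)))
          (algebraMap (ZMod 2) (GaloisField 2 q))) x
      invFun := fun f => f.toRingEquiv
      left_inv := fun _ => rfl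
      right_inv := fun _ => rfl }
  rw [Nat.card_congr e, IsGalois.card_aut_eq_finrank, GaloisField.finrank 2 hq]

/-- The regular normal case. -/
theorem semiaffine_of_regular (hα : Fintype.card α = p + 1) (hG : Nat.card G = (p + 1) * p * d)
    (hd : d < p) (hp2 : p ≠ 2) [IsPretransitive G α] (hF : Frame G p a π ι) (N : Subgroup G)
    [hN : N.Normal] (htr : IsPretransitive N α) (hfree : ∀ x : α, stabilizer N x = ⊥) :
    ∃ q : ℕ, q.Prime ∧ p + 1 = 2 ^ q ∧ (d = 1 ∨ d = q) ∧ ∃ e : α ≃ GaloisField 2 q,
      ∀ g : G, (e.symm.trans (((g : Perm α)).trans e)) ∈ Cfsg.semiaffineGroup (GaloisField 2 q) := by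
  classical
  have hcard : Nat.card N = p + 1 := by
    rw [card_eq_of_regular htr hfree a, Nat.card_eq_fintype_card, hα]
  have h2 := hF.trans_two
  -- `N` is an elementary abelian two-group
  obtain ⟨t, ht⟩ := exists_prime_orderOf_dvd_card' (G := N) 2
    (by rw [hcard]; exact (hp.out.eq_two_or_odd.resolve_left hp2 ▸ by omega))
  have ht1 : (t : G) ≠ 1 := fun h => by
    rw [show t = 1 from Subtype.ext h, orderOf_one] at ht; omega
  have ht2 : (t : G) * t = 1 := by
    have := pow_orderOf_eq_one t
    rw [ht, pow_two] at this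
    exact congrArg Subtype.val this
  have hexp : ∀ n ∈ N, n * n = 1 := by
    intro n hn
    by_cases h1 : n = 1
    · simp [h1]
    · obtain ⟨g, -, hg⟩ := exists_conj_eq_of_two h2 hfree a t.2 hn ht1 h1
      rw [← hg, show g * (t : G) * g⁻¹ * (g * t * g⁻¹) = g * ((t : G) * t) * g⁻¹ by group, ht2]
      group
  have hab : ∀ x y : N, x * y = y * x := by
    intro x y
    have hi : ∀ z : N, z⁻¹ = z := fun z => inv_eq_of_mul_eq_one_right (Subtype.ext (hexp z z.2))
    rw [← hi (x * y), mul_inv_rev, hi, hi]
  obtain ⟨q, hq⟩ : ∃ q, Nat.card N = 2 ^ q := by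
    have : Fact (Nat.Prime 2) := ⟨Nat.prime_two⟩
    exact IsPGroup.iff_card.mp fun n => ⟨1, by rw [pow_one, pow_two]; exact Subtype.ext (hexp n n.2)⟩
  rw [hcard] at hq
  have hqp : q.Prime := (Nat.prime_of_pow_sub_one_prime (a := 2) (n := q)
    (fun h => by rw [h] at hq; have := hp.out.two_le; omega)
    (by rw [← hq]; simpa using hp.out)).2
  letI : CommGroup N := { (inferInstance : Group N) with mul_comm := hab }
  obtain ⟨pt, hpt⟩ : ∃ pt : Additive N ≃ α, ∀ v, pt v = ((Additive.toMul v : N) : G) • a :=
    ⟨Additive.toMul.trans (regularEquiv htr hfree a), fun v => rfl⟩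
  -- conjugation by an element fixing `a`
  let Cj : ∀ g : G, AddEquiv (Additive N) (Additive N) := fun g =>
    MulEquiv.toAdditive (MulAut.conjNormal g)
  have hCj : ∀ g : G, g • a = a → ∀ v, pt (Cj g v) = g • pt v := by
    intro g hg v
    rw [hpt, hpt]
    exact regularEquiv_conj htr hfree hg (Additive.toMul v)
  let P : G := ⟨π, hF.mem⟩
  have hPa : P • a = a := hF.fix
  let T : AddMonoid.End (Additive N) := (Cj P).toAddMonoidHom
  have hT : ∀ v, pt (T v) = π (pt v) := fun v => hCj P hPa v
  have hTpow : ∀ (n : ℕ) v, pt ((T ^ n) v) = (π ^ n) (pt v) := by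
    intro n
    induction n with
    | zero => intro v; rfl
    | succ n ih => intro v; rw [pow_succ', pow_succ']; exact (hT _).trans (congrArg π (ih v))
  have hpt0 : pt 0 = a := by rw [hpt]; exact one_smul _ _
  set v0 : Additive N := pt.symm (ι 0) with hv0
  have horbit : ∀ v, v ≠ 0 → ∃ n : ℕ, (T ^ n) v0 = v := by
    intro v hv
    obtain ⟨i, hi⟩ := hF.surj (pt v) fun h => hv (pt.injective (h.trans hpt0.symm))
    refine ⟨i.val, pt.injective ?_⟩
    rw [hTpow, hv0, Equiv.apply_symm_apply, hF.step_pow, zero_add, ZMod.natCast_zmod_val, hi]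
  have hTinj : ∀ n : ℕ, Function.Injective ⇑(T ^ n) := by
    intro n v w h
    exact pt.injective ((π ^ n).injective (by rw [← hTpow, ← hTpow, h]))
  set K := Subring.closure ({T} : Set (AddMonoid.End (Additive N))) with hK
  letI instK : CommRing K := Subring.closureCommRingOfComm (by simp)
  have hTK : T ∈ K := Subring.subset_closure rfl
  have hcomm : ∀ (k : K) (n : ℕ) v, (k : AddMonoid.End (Additive N)) ((T ^ n) v) =
      (T ^ n) ((k : AddMonoid.End (Additive N)) v) := by
    intro k n v
    have := congrArg Subtype.val (mul_comm k (⟨T ^ n, pow_mem hTK n⟩ : K))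
    exact DFunLike.congr_fun this v
  let ev : K → Additive N := fun k => (k : AddMonoid.End (Additive N)) v0
  have hv0ne : v0 ≠ 0 := fun h => hF.ne 0 (by
    rw [← hpt0, ← h, hv0, Equiv.apply_symm_apply])
  have hev : Function.Bijective ev := by
    constructor
    · intro k l h
      refine Subtype.ext (AddMonoidHom.ext fun v => ?_)
      by_cases hv : v = 0
      · subst hv; exact (map_zero _).trans (map_zero _).symm
      · obtain ⟨n, rfl⟩ := horbit v hv
        exact (hcomm k n v0).trans ((congrArg (⇑(T ^ n)) h).trans (hcomm l n v0).symm)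
    · intro v
      by_cases hv : v = 0
      · exact ⟨0, hv.symm ▸ rfl⟩
      · obtain ⟨n, rfl⟩ := horbit v hv
        exact ⟨⟨T ^ n, pow_mem hTK n⟩, rfl⟩
  have : Finite K := Finite.of_injective _ hev.1
  have : Nontrivial K := ⟨⟨0, 1, fun h => hv0ne (congrArg ev h).symm⟩⟩
  have : NoZeroDivisors K := ⟨fun {k l} h => by
    by_cases hl : l = 0
    · exact Or.inr hl
    · left
      have hl' : ev l ≠ 0 := fun e => hl (hev.1 (e.trans rfl))
      obtain ⟨n, hn⟩ := horbit _ hl'
      apply hev.1
      show (k : AddMonoid.End (Additive N)) v0 = 0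
      refine hTinj n ?_
      rw [map_zero, ← hcomm, hn]
      exact congrArg ev h⟩
  have : IsDomain K := NoZeroDivisors.to_isDomain K
  letI fK : Field K := (Finite.isField_of_domain K).toField
  letI : Fintype K := Fintype.ofFinite K
  have : Fact (Nat.Prime 2) := ⟨Nat.prime_two⟩
  letI : Fintype (GaloisField 2 q) := Fintype.ofFinite _
  obtain ⟨r⟩ : Nonempty (K ≃+* GaloisField 2 q) := ⟨FiniteField.ringEquivOfCardEq (by
    rw [← Nat.card_eq_fintype_card, ← Nat.card_eq_fintype_card, GaloisField.card 2 q hqp.ne_zero,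
      Nat.card_congr (Equiv.ofBijective ev hev), Nat.card_congr Additive.toMul, hcard, hq])⟩
  obtain ⟨evE, hevE⟩ : ∃ evE : K ≃ Additive N, ∀ k, evE k = ev k :=
    ⟨Equiv.ofBijective ev hev, fun k => rfl⟩
  obtain ⟨e, hesymm⟩ : ∃ e : α ≃ GaloisField 2 q, ∀ x, e.symm x = pt (ev (r.symm x)) := by
    refine ⟨pt.symm.trans (evE.symm.trans r.toEquiv), fun x => ?_⟩
    rw [Equiv.symm_trans_apply, Equiv.symm_trans_apply, Equiv.symm_symm, Equiv.symm_symm, hevE]
    rfl
  have he : ∀ k, e (pt (ev k)) = r k := fun k => by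
    rw [← Equiv.eq_symm_apply, hesymm, RingEquiv.symm_apply_apply]
  -- elements fixing `a`
  have hstab : ∀ g : G, g • a = a → ∃ (c : K) (φ : GaloisField 2 q ≃+* GaloisField 2 q), c ≠ 0 ∧
      (g • ι 0 = ι 0 → c = 1) ∧
      ∀ x, e.symm.trans (((g : Perm α)).trans e) x = r c * φ x := by
    intro g hga
    let ψ : AddMonoid.End (Additive N) →+* AddMonoid.End (Additive N) :=
      { toFun := fun f => (Cj g).toAddMonoidHom.comp (f.comp (Cj g).symm.toAddMonoidHom)
        map_one' := AddMonoidHom.ext fun v => (Cj g).apply_symm_apply v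
        map_mul' := fun f f' => AddMonoidHom.ext fun v => by
          show Cj g (f (f' ((Cj g).symm v))) = Cj g (f ((Cj g).symm (Cj g (f' ((Cj g).symm v)))))
          rw [AddEquiv.symm_apply_apply]
        map_zero' := AddMonoidHom.ext fun v => map_zero (Cj g)
        map_add' := fun f f' => AddMonoidHom.ext fun v => map_add (Cj g) _ _ }
    have hψ : ∀ f v, ψ f (Cj g v) = Cj g (f v) := fun f v => by
      show Cj g (f ((Cj g).symm (Cj g v))) = _
      rw [AddEquiv.symm_apply_apply]
    obtain ⟨k, c0, -, hkc⟩ := hF.affine hα hG hd g.2 hga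
    have hconj : ∀ x, (g : Perm α) (π x) = (π ^ k.val) ((g : Perm α) x) := by
      intro x
      by_cases hx : x = a
      · subst hx
        rw [hF.fix, show (g : Perm α) x = x from hga,
          Perm.pow_apply_eq_self_of_apply_eq_self hF.fix]
      · obtain ⟨i, rfl⟩ := hF.surj x hx
        rw [hF.step, hkc, hkc, hF.step_pow, ZMod.natCast_zmod_val]
        ring_nf
    have hψT : ψ T = T ^ k.val := by
      refine AddMonoidHom.ext fun v => ?_
      obtain ⟨w, rfl⟩ := (Cj g).surjective v
      refine (hψ T w).trans ?_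
      apply pt.injective
      exact (hCj g hga (T w)).trans (((congrArg (fun y => (g : Perm α) y) (hT w)).trans
        ((hconj _).trans (congrArg (⇑(π ^ k.val)) (hCj g hga w).symm))).trans (hTpow _ _).symm)
    have hmem : ∀ x ∈ K, ψ x ∈ K := by
      intro x hx
      induction hx using Subring.closure_induction with
      | mem x hx => rw [Set.mem_singleton_iff.mp hx, hψT]; exact pow_mem hTK _
      | zero => rw [map_zero]; exact K.zero_mem
      | one => rw [map_one]; exact K.one_mem
      | add x y _ _ hx hy => rw [map_add]; exact K.add_mem hx hy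
      | neg x _ hx => rw [map_neg]; exact K.neg_mem hx
      | mul x y _ _ hx hy => rw [map_mul]; exact K.mul_mem hx hy
    let φ₀ : K →+* K := (ψ.comp K.subtype).codRestrict K fun x => hmem _ x.2
    have hinj : Function.Injective φ₀ := by
      intro x y h
      refine Subtype.ext (AddMonoidHom.ext fun v => (Cj g).injective ?_)
      have h' : ψ x = ψ y := congrArg Subtype.val h
      exact (hψ x v).symm.trans ((DFunLike.congr_fun h' (Cj g v)).trans (hψ y v))
    let φ₁ : K ≃+* K := RingEquiv.ofBijective φ₀ (Finite.injective_iff_bijective.mp hinj)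
    obtain ⟨c, hc⟩ := hev.2 (Cj g v0)
    refine ⟨c, r.symm.trans (φ₁.trans r), fun h0 => hv0ne ((Cj g).injective ?_), fun hg0 => ?_, fun x => ?_⟩
    · rw [← hc, h0, map_zero]; rfl
    · apply hev.1
      rw [hc]
      apply pt.injective
      rw [hCj g hga, hv0, Equiv.apply_symm_apply, hg0]
      exact (pt.apply_symm_apply _).symm
    · show e ((g : Perm α) (e.symm x)) = r c * r (φ₁ (r.symm x))
      rw [hesymm]
      rw [show (g : Perm α) (pt (ev (r.symm x))) = pt (Cj g (ev (r.symm x))) from (hCj g hga _).symm,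
        show Cj g (ev (r.symm x)) = ev (φ₁ (r.symm x) * c) from ?_, he, map_mul, mul_comm]
      show _ = (ψ (r.symm x : K)) ((c : AddMonoid.End (Additive N)) v0)
      exact ((congrArg (⇑(ψ (r.symm x : K))) hc).trans (hψ _ _)).symm
  have hstab' : ∀ g : G, g • a = a →
      e.symm.trans (((g : Perm α)).trans e) ∈ Cfsg.semiaffineGroup (GaloisField 2 q) := by
    intro g hga
    obtain ⟨c, φ, hc0, -, h⟩ := hstab g hga
    exact ⟨Units.mk0 (r c) (by simpa using hc0), 0, φ, fun x => by rw [h, Units.val_mk0, add_zero]⟩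
  refine ⟨q, hqp, hq, ?_, e, fun g => ?_⟩
  · -- the stabiliser of two points consists of field automorphisms
    let x : Fin 2 ↪ α := ⟨![a, ι 0], by
      intro i j h
      fin_cases i <;> fin_cases j <;>
        first | rfl | exact absurd h.symm (hF.ne 0) | exact absurd h (hF.ne 0)⟩
    have hd' := hF.card_two hα hG x
    let f : RingAut (GaloisField 2 q) →* Perm (GaloisField 2 q) :=
      { toFun := fun φ => φ.toEquiv
        map_one' := rfl
        map_mul' := fun _ _ => rfl }
    let g' : tupleStab G x →* Perm (GaloisField 2 q) :=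
      { toFun := fun h => e.symm.trans (((h : Perm α)).trans e)
        map_one' := Equiv.ext fun y => e.apply_symm_apply y
        map_mul' := fun h h' => Equiv.ext fun y => by simp }
    have hg' : Function.Injective g' := by
      intro h h' eq
      refine Subtype.ext (Equiv.ext fun y => e.injective ?_)
      have := DFunLike.congr_fun eq (e y)
      simpa [g'] using this
    have hle : g'.range ≤ f.range := by
      rintro _ ⟨h, rfl⟩
      obtain ⟨hG', hx⟩ := mem_tupleStab.mp h.2
      obtain ⟨c, φ, -, hc1, hφ⟩ := hstab ⟨h, hG'⟩ (hx 0)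
      refine ⟨φ, Equiv.ext fun y => ?_⟩
      show φ y = g' h y
      rw [show g' h y = r c * φ y from hφ y, hc1 (hx 1), map_one, one_mul]
    have h1 := Subgroup.card_dvd_of_le hle
    rw [← Nat.card_congr (MonoidHom.ofInjective hg').toEquiv, hd',
      ← Nat.card_congr (MonoidHom.ofInjective (f := f) fun φ φ' h => RingEquiv.ext
        fun y => DFunLike.congr_fun h y).toEquiv, card_ringAut_galois q hqp.ne_zero] at h1
    exact (Nat.dvd_prime hqp).mp h1
  · obtain ⟨n, hn, s, hs, rfl⟩ := exists_mul_stabilizer htr a g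
    have h1 : e.symm.trans (((n : G) : Perm α).trans e) ∈
        Cfsg.semiaffineGroup (GaloisField 2 q) := by
      obtain ⟨b, hb⟩ := hev.2 (Additive.ofMul ⟨n, hn⟩)
      refine ⟨1, r b, RingEquiv.refl _, fun x => ?_⟩
      show e ((n : Perm α) (e.symm x)) = 1 * x + r b
      rw [hesymm, show (n : Perm α) (pt (ev (r.symm x))) = pt (ev (b + r.symm x)) from ?_, he,
        map_add, RingEquiv.apply_symm_apply, one_mul, add_comm]
      show (n : Perm α) (pt (ev (r.symm x))) = pt (ev b + ev (r.symm x))
      rw [hb, hpt, hpt, toMul_add, toMul_ofMul, Subgroup.coe_mul, mul_smul]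
      rfl
    have := mul_mem h1 (hstab' s hs)
    convert this using 1
    exact Equiv.ext fun y => by simp

end Cfsg.Agent.Perm.PrimeAddOne
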