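import Mathlib
import Cfsg.Agent.Perm.PrimeAddOne.RegularCase
import Cfsg.Agent.Perm.PrimeAddOne.FullCase
import Cfsg.Agent.H32.SharplyTwo
import Cfsg.Agent.H28.ZassApps

set_option autoImplicit false
set_option linter.unusedSectionVars false

/-!
The case distinction for transitive groups of degree `p + 1` and order `(p+1) p d`, `d < p`.
-/

namespace Cfsg.Agent.Perm.PrimeAddOne

open Equiv MulAction

variable {α : Type*} [Fintype α] [DecidableEq α] {G : Subgroup (Perm α)} {p d : ℕ} [hp : Fact p.Prime]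
  {a : α} {π : Perm α} {ι : ZMod p → α}

theorem sharp_of_one (hα : Fintype.card α = p + 1) (hG : Nat.card G = (p + 1) * p * d)
    (hd : d = 1) [IsPretransitive G α] (hF : Frame G p a π ι) (x : Fin 2 ↪ α) :
    stabilizer G x = ⊥ := by
  have h := hF.card_two hα hG x
  rw [hd] at h
  have : Subsingleton (tupleStab G x) := (Nat.card_eq_one_iff_unique.mp h).1
  refine eq_bot_iff.mpr fun g hg => ?_
  have hm : (g : Perm α) ∈ tupleStab G x := mem_tupleStab.mpr ⟨g.2, fun i =>
    DFunLike.congr_fun (mem_stabilizer_iff.mp hg) i⟩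
  rw [Subgroup.mem_bot]
  have e := congrArg (fun t : tupleStab G x => (t : Perm α))
    (Subsingleton.elim (⟨_, hm⟩ : tupleStab G x) 1)
  exact Subtype.ext e

theorem zassenhaus_of_not_regular (hα : Fintype.card α = p + 1) (hG : Nat.card G = (p + 1) * p * d)
    (hd : d < p) (hd2 : 2 ≤ d) [IsPretransitive G α] (hF : Frame G p a π ι)
    (hno : ¬ ∃ N : Subgroup G, N.Normal ∧ IsPretransitive N α ∧ ∀ x : α, stabilizer N x = ⊥) :
    Cfsg.IsZassenhausGroup G α := by
  refine ⟨inferInstance, hF.trans_two, ?_, ?_, ?_⟩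
  · intro g x y z hxy hyz hxz hx hy hz
    exact Subtype.ext (eq_one_of_fix_three hα hG hd hF g.2 hxy hxz hyz hx hy hz)
  · let x : Fin 2 ↪ α := ⟨![a, ι 0], by
      intro i j h
      fin_cases i <;> fin_cases j <;>
        first | rfl | exact absurd h.symm (hF.ne 0) | exact absurd h (hF.ne 0)⟩
    have h := hF.card_two hα hG x
    have : Nontrivial (tupleStab G x) := Finite.one_lt_card_iff_nontrivial.mp (by omega)
    obtain ⟨g, hg⟩ := exists_ne (1 : tupleStab G x)
    obtain ⟨hgG, hgx⟩ := mem_tupleStab.mp g.2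
    exact ⟨⟨g, hgG⟩, fun e => hg (Subtype.ext (congrArg (fun t : G => (t : Perm α)) e)), a, ι 0, (hF.ne 0).symm,
      hgx 0, hgx 1⟩
  · intro N hN htr
    by_contra hc
    push Not at hc
    exact hno ⟨N, hN, htr, hc⟩

theorem classify (hα : Fintype.card α = p + 1) (hG : Nat.card G = (p + 1) * p * d) (hd : d < p)
    [IsPretransitive G α] (hF : Frame G p a π ι) :
    (d = p - 1 ∧ Nonempty (G ≃* Matrix.ProjGenLinGroup (Fin 2) (ZMod p))) ∨
      (2 * d = p - 1 ∧ Nonempty (G ≃* Matrix.ProjectiveSpecialLinearGroup (Fin 2) (ZMod p))) ∨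
      (∃ q : ℕ, q.Prime ∧ p + 1 = 2 ^ q ∧ (d = 1 ∨ d = q) ∧ ∃ e : α ≃ GaloisField 2 q,
        ∀ g : G, (e.symm.trans (((g : Perm α)).trans e)) ∈ Cfsg.semiaffineGroup (GaloisField 2 q)) := by
  classical
  have hd1 : 1 ≤ d := by
    rcases Nat.eq_zero_or_pos d with h | h
    · rw [h, mul_zero] at hG
      exact absurd hG Nat.card_pos.ne'
    · exact h
  by_cases hp2 : p = 2
  · exact Or.inl ⟨by omega, pgl_of_full hα hG (by omega) hF⟩
  by_cases hreg : ∃ N : Subgroup G, N.Normal ∧ IsPretransitive N α ∧ ∀ x : α, stabilizer N x = ⊥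
  · obtain ⟨N, hN, htr, hfree⟩ := hreg
    exact Or.inr (Or.inr (semiaffine_of_regular hα hG hd hp2 hF N htr hfree))
  have := hF.trans_two
  rcases Nat.lt_or_ge d 2 with h2 | h2
  · obtain ⟨N, -, -, hN, -, -, -, -, -, -, htr, hfree, -⟩ :=
      Cfsg.Agent.H32.exists_sharply_two_kernel G
        (sharp_of_one hα hG (by omega) hF) (by rw [hα]; have := hp.out.pos; omega)
    exact absurd ⟨N, hN, htr, hfree⟩ hreg
  have hZ := zassenhaus_of_not_regular hα hG hd h2 hF hreg
  set P : G := ⟨π, hF.mem⟩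
  have hPpow : ∀ n : ℕ, ∀ i, ((P ^ n : G) : Perm α) (ι i) = ι (i + n) := fun n i => by
    rw [SubmonoidClass.coe_pow]; exact hF.step_pow n i
  have hord : orderOf P = p := by
    refine orderOf_eq_prime ?_ fun h => ?_
    · refine Subtype.ext (hF.ext' ?_ fun i => ?_)
      · rw [SubmonoidClass.coe_pow]; exact Perm.pow_apply_eq_self_of_apply_eq_self hF.fix p
      · rw [hPpow, ZMod.natCast_self, add_zero]; rfl
    · have := hPpow 1 0
      rw [pow_one, h] at this
      have e : ι 0 = ι (0 + ((1 : ℕ) : ZMod p)) := this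
      exact one_ne_zero (α := ZMod p) (by simpa using (hF.inj e).symm)
  have hker : Cfsg.Agent.H28.Zass.IsKer a (Subgroup.zpowers P) := by
    refine ⟨(Subgroup.zpowers_le.mpr hF.fix), ?_, fun u hu hu1 c hc => ?_⟩
    · rw [Nat.card_zpowers, hord, Nat.card_eq_fintype_card, hα]
    · rw [← mem_powers_iff_mem_zpowers] at hu
      obtain ⟨n, rfl⟩ := hu
      by_contra hca
      obtain ⟨i, rfl⟩ := hF.surj c hca
      apply hu1
      have h := hPpow n i
      have hc' : ((P ^ n : G) : Perm α) (ι i) = ι i := hc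
      rw [hc'] at h
      have h0 : ((n : ℕ) : ZMod p) = 0 := by
        have := hF.inj h; linear_combination -this
      exact orderOf_dvd_iff_pow_eq_one.mp (hord ▸ (ZMod.natCast_eq_zero_iff n p).mp h0)
  have hcomm : ∀ u ∈ Subgroup.zpowers P, ∀ v ∈ Subgroup.zpowers P, u * v = v * u := by
    rintro _ ⟨m, rfl⟩ _ ⟨n, rfl⟩
    exact ((Commute.refl P).zpow_zpow m n).eq
  have hab : a ≠ ι 0 := (hF.ne 0).symm
  let x : Fin 2 ↪ α := ⟨![a, ι 0], by
    intro i j h
    fin_cases i <;> fin_cases j <;>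
      first | rfl | exact absurd h.symm (hF.ne 0) | exact absurd h (hF.ne 0)⟩
  have he : Nat.card ↥(stabilizer G a ⊓ stabilizer G (ι 0)) = d := by
    rw [← hF.card_two hα hG x]
    exact Nat.card_congr
      { toFun := fun g => ⟨g.1.1, mem_tupleStab.mpr ⟨g.1.2, fun i => by
          fin_cases i
          · exact (Subgroup.mem_inf.mp g.2).1
          · exact (Subgroup.mem_inf.mp g.2).2⟩⟩
        invFun := fun g => ⟨⟨g.1, (mem_tupleStab.mp g.2).1⟩,
          Subgroup.mem_inf.mpr ⟨(mem_tupleStab.mp g.2).2 0, (mem_tupleStab.mp g.2).2 1⟩⟩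
        left_inv := fun _ => rfl
        right_inv := fun _ => rfl }
  rcases Cfsg.Agent.H28.Zass.kernel_cases hker hZ hab hcomm with h | h
  · rw [he, Nat.card_zpowers, hord] at h
    exact Or.inl ⟨by omega, pgl_of_full hα hG h hF⟩
  · obtain ⟨F, _, _, -, hFc, ⟨e⟩⟩ := Cfsg.Agent.H28.Zass.half_equiv hker hZ hab hcomm h
    rw [he, Nat.card_zpowers, hord] at h
    rw [Nat.card_zpowers, hord] at hFc
    let r : F ≃+* ZMod p := FiniteField.ringEquivOfCardEq (by rw [hFc, ZMod.card])
    exact Or.inr (Or.inl ⟨by omega, ⟨e.trans (Cfsg.Agent.H27.PermFamily.pslCongr r)⟩⟩)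

end Cfsg.Agent.Perm.PrimeAddOne
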